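import Mathlib.CategoryTheory.Abelian.Indization
import Mathlib.CategoryTheory.Subobject.ArtinianObject
import Mathlib.CategoryTheory.Subobject.Limits
import Mathlib.CategoryTheory.Abelian.Basic

/-! Images of powers of `p` stabilise on ind-objects of cofinite type. -/

set_option autoImplicit false
set_option linter.style.haveILetI false
universe v
open CategoryTheory CategoryTheory.Limits Opposite

namespace Groth.Agent.IndStab

variable {C : Type v} [SmallCategory C] [Abelian C]

omit [Abelian C] in
theorem hom_ext_yoneda {A B : Ind C} (f g : A ⟶ B)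
    (h : ∀ (X : C) (x : Ind.yoneda.obj X ⟶ A), x ≫ f = x ≫ g) : f = g := by
  apply (Ind.inclusion C).map_injective
  apply NatTrans.ext
  funext X
  ext a
  let i := (Ind.yonedaCompInclusion (C := C)).app X.unop
  let x := (Ind.inclusion C).preimage (X := Ind.yoneda.obj X.unop) (Y := A) (i.hom ≫ yonedaEquiv.symm a)
  have h1 := congrArg (fun t => (Ind.inclusion C).map t) (h X.unop x)
  simp only [Functor.map_comp, x, Functor.map_preimage, Category.assoc] at h1
  have h2 := congrArg yonedaEquiv ((cancel_epi i.hom).1 h1)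
  simpa [yonedaEquiv] using h2

variable (p : ℕ) (A : Ind C)

theorem imageSubobject_le_of_comp_cokernel {f g : A ⟶ A} (h : f ≫ cokernel.π g = 0) :
    imageSubobject f ≤ imageSubobject g := by
  have hk : cokernel.π g ≫ cokernel.desc g (cokernel.π (imageSubobject g).arrow) (by
      have h := factorThruImageSubobject g ≫= cokernel.condition (imageSubobject g).arrow
      rwa [comp_zero, ← Category.assoc, imageSubobject_arrow_comp] at h) =
      cokernel.π (imageSubobject g).arrow := cokernel.π_desc _ _ _
  refine imageSubobject_le _ (Abelian.monoLift (imageSubobject g).arrow f ?_) (Abelian.monoLift_comp _ _ _)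
  rw [← hk, ← Category.assoc, h, zero_comp]

theorem stabilizes (hart : ∀ X : C, IsArtinianObject X) (htor : ∀ X : C, ∃ n : ℕ, (p ^ n) • 𝟙 X = 0)
    (hA : ∀ n : ℕ, (Ind.yoneda (C := C)).essImage (kernel ((p ^ n) • 𝟙 A))) :
    ∃ N : ℕ, ∀ n : ℕ, N ≤ n →
      imageSubobject ((p ^ n) • 𝟙 A) = imageSubobject ((p ^ N) • 𝟙 A) := by
  haveI := preservesBinaryBiproducts_of_preservesBinaryCoproducts (Ind.yoneda (C := C))
  haveI : (Ind.yoneda (C := C)).Additive := Functor.additive_of_preservesBinaryBiproducts _
  let P : ℕ → (A ⟶ A) := fun n => (p ^ n) • 𝟙 A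
  let K : ℕ → C := fun n => (hA n).witness
  let e : ∀ n, Ind.yoneda.obj (K n) ≅ kernel (P n) := fun n => (hA n).getIso
  let j : ∀ n, Ind.yoneda.obj (K n) ⟶ A := fun n => (e n).hom ≫ kernel.ι (P n)
  have hj : ∀ n, (p ^ n) • j n = 0 := fun n => by
    have h : j n ≫ P n = 0 := by simp [j]
    rwa [Preadditive.comp_nsmul, Category.comp_id] at h
  have hjm : ∀ n, Mono (j n) := fun n => mono_comp _ _
  have hlift : ∀ n (T : Ind C) (x : T ⟶ A), (p ^ n) • x = 0 → ∃ x' : T ⟶ Ind.yoneda.obj (K n), x' ≫ j n = x :=
    fun n T x hx => ⟨kernel.lift (P n) x (by rw [Preadditive.comp_nsmul, Category.comp_id, hx]) ≫ (e n).inv,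
      by simp [j]⟩
  have hG : ∀ n, ∃ G : K (n + 1) ⟶ K 1, Ind.yoneda.map G ≫ j 1 = (p ^ n) • j (n + 1) := fun n => by
    obtain ⟨x', hx'⟩ := hlift 1 _ ((p ^ n) • j (n + 1)) (by rw [← mul_smul, pow_one, ← pow_succ']; exact hj _)
    exact ⟨Ind.yoneda.preimage x', by rw [Functor.map_preimage, hx']⟩
  choose G hG using hG
  have hGstep : ∀ n, ∃ h : K (n + 1 + 1) ⟶ K (n + 1), G (n + 1) = h ≫ G n := fun n => by
    obtain ⟨x', hx'⟩ := hlift (n + 1) _ (p • j (n + 1 + 1))
      (by rw [← mul_smul, ← pow_succ]; exact hj _)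
    refine ⟨Ind.yoneda.preimage x', Ind.yoneda.map_injective ?_⟩
    haveI := hjm 1
    rw [← cancel_mono (j 1), Functor.map_comp, Category.assoc, hG, hG, Functor.map_preimage,
      Preadditive.comp_nsmul, hx', ← mul_smul, ← pow_succ]
  haveI := hart (K 1)
  let S : ℕ →o (Subobject (K 1))ᵒᵈ :=
    ⟨fun n => OrderDual.toDual (imageSubobject (G n)), monotone_nat_of_le_succ fun n => by
      obtain ⟨h, hh⟩ := hGstep n
      show imageSubobject (G (n + 1)) ≤ imageSubobject (G n)
      rw [hh]
      exact imageSubobject_comp_le _ _⟩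
  obtain ⟨N, hN⟩ := antitone_chain_condition_of_isArtinianObject S
  have hcover : ∀ n, N ≤ n → ∃ (T : C) (π : T ⟶ K (n + 1)) (y : T ⟶ K (n + 1 + 1)),
      Epi π ∧ y ≫ G (n + 1) = π ≫ G n := by
    intro n hn
    have he : imageSubobject (G n) = imageSubobject (G (n + 1)) :=
      congrArg OrderDual.ofDual ((hN n hn).symm.trans (hN (n + 1) (by omega)))
    let a := factorThruImageSubobject (G (n + 1))
    let b := factorThruImageSubobject (G n) ≫ Subobject.ofLE _ _ he.le
    refine ⟨pullback a b, pullback.snd a b, pullback.fst a b, inferInstance, ?_⟩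
    have h := congrArg (· ≫ (imageSubobject (G (n + 1))).arrow) (pullback.condition (f := a) (g := b))
    simpa [a, b] using h
  have key : ∀ n, N ≤ n → ∀ (k : ℕ) (T : Ind C) (x : T ⟶ A), (p ^ (n + k)) • x = 0 →
      ((p ^ n) • x) ≫ cokernel.π (P (n + 1)) = 0 := by
    intro n hn k
    induction k with
    | zero => intro T x hx; rw [show (p ^ n) • x = 0 from hx, zero_comp]
    | succ k ih =>
      intro T x hx
      obtain ⟨x'', hx''⟩ := hlift (n + k + 1) T x hx
      obtain ⟨T', π, y, hπ, hy⟩ := hcover (n + k) (by omega)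
      let f := Ind.yoneda.map π
      haveI : Epi f := inferInstance
      let y' : pullback f x'' ⟶ A := pullback.fst f x'' ≫ Ind.yoneda.map y ≫ j (n + k + 1 + 1)
      have hy' : (p ^ (n + k + 1)) • y' = (p ^ (n + k)) • (pullback.snd f x'' ≫ x) := by
        simp only [y', ← Preadditive.comp_nsmul, ← hG, ← Functor.map_comp_assoc, hy]
        rw [Functor.map_comp_assoc, hG, ← Category.assoc, pullback.condition, Category.assoc,
          Preadditive.comp_nsmul, hx'']
      have h0 := ih _ (pullback.snd f x'' ≫ x - p • y') (by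
        rw [smul_sub, ← mul_smul, ← pow_succ, hy', sub_self])
      have h1 : ((p ^ n) • p • y') ≫ cokernel.π (P (n + 1)) = 0 := by
        rw [← mul_smul, ← pow_succ]
        have := y' ≫= cokernel.condition (P (n + 1))
        rwa [comp_zero, ← Category.assoc, Preadditive.comp_nsmul, Category.comp_id] at this
      rw [smul_sub, Preadditive.sub_comp, h1, sub_zero, ← Preadditive.comp_nsmul, Category.assoc] at h0
      exact (cancel_epi (pullback.snd f x'')).1 (h0.trans comp_zero.symm)
  have hle : ∀ n, N ≤ n → imageSubobject (P n) ≤ imageSubobject (P (n + 1)) := by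
    intro n hn
    refine imageSubobject_le_of_comp_cokernel A (hom_ext_yoneda _ _ fun X x => ?_)
    obtain ⟨m, hm⟩ := htor X
    have hx : (p ^ (n + m)) • x = 0 := by
      have h := congrArg (fun t => Ind.yoneda.map t ≫ x) hm
      simp only [Functor.map_nsmul, CategoryTheory.Functor.map_id, Functor.map_zero, zero_comp,
        Preadditive.nsmul_comp, Category.id_comp] at h
      rw [pow_add, mul_smul, h, smul_zero]
    rw [comp_zero, ← Category.assoc, Preadditive.comp_nsmul, Category.comp_id]
    exact key n hn m _ x hx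
  refine ⟨N, fun n hn => ?_⟩
  induction n, hn using Nat.le_induction with
  | base => rfl
  | succ n hn ih =>
    refine Eq.trans (le_antisymm ?_ (hle n hn)) ih
    show imageSubobject (P (n + 1)) ≤ imageSubobject (P n)
    rw [show P (n + 1) = (p • 𝟙 A) ≫ P n by
      simp only [P, Preadditive.nsmul_comp, Category.id_comp, ← mul_smul, pow_succ']]
    exact imageSubobject_comp_le _ _

end Groth.Agent.IndStab
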